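import Groth.Agent.PicSepSmooth.Triv
import Groth.Agent.PicTangent.GroupLaw
import Groth.Agent.PicLfp.Sys

/-!
# The Picard scheme of a proper smooth morphism is separated
-/

set_option autoImplicit false
set_option linter.style.haveILetI false
set_option backward.isDefEq.respectTransparency false
set_option backward.isDefEq.respectTransparency.types false
set_option maxHeartbeats 1000000

universe u

open CategoryTheory CategoryTheory.Limits AlgebraicGeometry TopologicalSpace Opposite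
open scoped Groth.Agent.H23.PicMul
open Groth.Agent.H23.TrivBasic Groth.Agent.H23.SeesawGlobal

namespace Groth.Agent.PicSepSmooth

open Groth.Agent

variable {X S : Scheme.{u}} (f : X ⟶ S) {P : Over S} (φ : ∀ T : Over S, PicF.Cl (PicF.XT f T) → (T ⟶ P))

/-- The properties of a relative Picard scheme which matter for separatedness. -/
structure IsFlatLocal : Prop where
  natural : ∀ (T T' : Over S) (g : T' ⟶ T) (c : PicF.Cl (PicF.XT f T)), PicF.IsInvertibleCl c →
    φ T' (PicF.pullCl (PicF.XTmap f g) c) = g ≫ φ T c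
  surj : ∀ (T : Over S) (g : T ⟶ P) (t : T.left), ∃ (U : Scheme.{u}) (u : U ⟶ T.left) (a : U),
    Flat u ∧ LocallyOfFinitePresentation u ∧ u a = t ∧
      ∃ c : PicF.Cl (PicF.XT f (AbDual.ovr T u)), PicF.IsInvertibleCl c ∧ φ (AbDual.ovr T u) c = AbDual.ovrHom T u ≫ g
  inj : ∀ (T : Over S) (c c' : PicF.Cl (PicF.XT f T)), PicF.IsInvertibleCl c → PicF.IsInvertibleCl c' →
    φ T c = φ T c' → ∀ t : T.left, ∃ (U : Scheme.{u}) (u : U ⟶ T.left) (a : U), u a = t ∧
      PicF.pullCl (PicF.XTmap f (AbDual.ovrHom T u)) c = PicF.pullCl (PicF.XTmap f (AbDual.ovrHom T u)) c'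

variable {f φ}

theorem of_isRelPic (hP : PicRel.IsRelPic f P φ) : IsFlatLocal f φ where
  natural := hP.natural
  surj T g t := by
    obtain ⟨ι, U, hU, hc⟩ := hP.locallySurjective T g
    obtain ⟨i, a, ha⟩ := hU t
    haveI : Etale (U i).hom := (U i).prop
    exact ⟨(U i).left, (U i).hom, a, inferInstance, inferInstance, ha, hc i⟩
  inj T c c' hc hc' he t := by
    obtain ⟨ι, U, hU, hcc⟩ := hP.locallyInjective T c c' hc hc' he
    obtain ⟨i, a, ha⟩ := hU t
    exact ⟨(U i).left, (U i).hom, a, ha, hcc i⟩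

theorem of_isRelPicK (hP : AbDual.IsRelPicK Scheme.fppfPrecoverage f P φ) : IsFlatLocal f φ where
  natural := hP.natural
  surj T g t := by
    obtain ⟨R, hR, hRu⟩ := hP.locallySurjective T g
    obtain ⟨ι, U, u, rfl⟩ := Presieve.exists_eq_ofArrows R
    obtain ⟨i, a, ha⟩ := ((Scheme.ofArrows_mem_precoverage_iff _).1 hR).1 t
    obtain ⟨hfl, hfp⟩ := ((Scheme.ofArrows_mem_precoverage_iff _).1 hR).2 i
    exact ⟨U i, u i, a, hfl, hfp, ha, hRu (u i) (Presieve.ofArrows.mk i)⟩
  inj T c c' hc hc' he t := by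
    obtain ⟨R, hR, hRu⟩ := hP.locallyInjective T c c' hc hc' he
    obtain ⟨ι, U, u, rfl⟩ := Presieve.exists_eq_ofArrows R
    obtain ⟨i, a, ha⟩ := ((Scheme.ofArrows_mem_precoverage_iff _).1 hR).1 t
    exact ⟨U i, u i, a, ha, hRu (u i) (Presieve.ofArrows.mk i)⟩

theorem eq_iff_mul_eq_one {V W : Scheme.{u}} (m : W ⟶ V) {c d e : PicF.Cl V} (he : d * e = 1) :
    PicF.pullCl m c = PicF.pullCl m d ↔ PicF.pullCl m (c * e) = 1 := by
  have h1 : PicF.pullCl m d * PicF.pullCl m e = 1 := by
    rw [← H23.PicMul.pullCl_mul, he, H23.PicMul.pullCl_one]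
  rw [H23.PicMul.pullCl_mul]
  constructor
  · intro h
    rw [h, h1]
  · intro h
    calc PicF.pullCl m c = PicF.pullCl m c * (PicF.pullCl m d * PicF.pullCl m e) := by rw [h1, mul_one]
      _ = PicF.pullCl m d := by rw [mul_left_comm, h, mul_one]

theorem triv_pullback_iff {V W : Scheme.{u}} (m : W ⟶ V) {L : V.Modules} :
    Triv ((Scheme.Modules.pullback m).obj L) ↔ PicF.pullCl m (PicF.cl L) = 1 :=
  H23.PicMul.cl_eq_iff.symm

variable [IsProper f] [Smooth f] (hP : IsFlatLocal f φ)

section Key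

variable {V : Over S} {c d e : PicF.Cl (PicF.XT f V)} (hc : PicF.IsInvertibleCl c) (hd : PicF.IsInvertibleCl d)
  (hde : d * e = 1) {L : (PicF.XT f V).Modules} (hLc : PicF.cl L = c * e) (hL' : PicF.IsInvertible L)
  {S' : Scheme.{u}} (h : PicF.XT f V ⟶ S') (g : S' ⟶ V.left) (hgp : h ≫ g = PicF.XTproj f V)
  [IsProper h] [Smooth h] [GeometricallyIntegral h] [IsFinite g] [Etale g]

include hP hc hd hde hLc hgp hL'

omit [IsProper f] [Smooth f] in
theorem exists_point_of_mem_good (y : V.left) (hy : y ∈ good h g L) :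
    ∃ (Ω : Type u) (_ : Field Ω) (k : Spec (CommRingCat.of Ω) ⟶ V.left), k (IsLocalRing.closedPoint Ω) = y ∧
      k ≫ (φ V c).left = k ≫ (φ V d).left := by
  let Ω := AlgebraicClosure (V.left.residueField y)
  let k : Spec (CommRingCat.of Ω) ⟶ V.left :=
    Spec.map (CommRingCat.ofHom (algebraMap (V.left.residueField y) Ω)) ≫ V.left.fromSpecResidueField y
  have hk : k (IsLocalRing.closedPoint Ω) = y :=
    (Scheme.Hom.comp_apply _ _ _).trans (Scheme.fromSpecResidueField_apply _ _)
  have ht := triv_of_mem_good h g hgp L k (by rw [hk]; exact hy)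
  let q := AbDual.ovrHom V k
  have hpb := SeesawX.PicSep.isPullback_XTmap f q
  have h1 : PicF.pullCl (PicF.XTmap f q) c = PicF.pullCl (PicF.XTmap f q) d := by
    refine (eq_iff_mul_eq_one _ hde).2 ?_
    rw [← hLc]
    exact (triv_pullback_iff _).1 (triv_of_factor hpb.isoPullback.hom hpb.isoPullback_hom_fst ht)
  have h2 : q ≫ φ V c = q ≫ φ V d := by
    rw [← hP.natural _ _ q c hc, ← hP.natural _ _ q d hd, h1]
  exact ⟨Ω, inferInstance, k, hk, congrArg CommaMorphism.left h2⟩

omit [IsProper f] [Smooth f] in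
theorem mem_good_of_eq (y : V.left)
    (heq : V.left.fromSpecResidueField y ≫ (φ V c).left = V.left.fromSpecResidueField y ≫ (φ V d).left) :
    y ∈ good h g L := by
  let q := AbDual.ovrHom V (V.left.fromSpecResidueField y)
  have h2 : q ≫ φ V c = q ≫ φ V d := Over.OverMorphism.ext heq
  rw [← hP.natural _ _ q c hc, ← hP.natural _ _ q d hd] at h2
  let Ty := AbDual.ovr V (V.left.fromSpecResidueField y)
  obtain ⟨U, u, x, -, hx⟩ := hP.inj Ty _ _ (PicLoc.isInvertibleCl_pullCl _ hc) (PicLoc.isInvertibleCl_pullCl _ hd)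
    h2 (IsLocalRing.closedPoint _)
  rw [← PicLoc.pullCl_comp, ← PicLoc.pullCl_comp, ← SeesawX.PicSep.XTmap_comp] at hx
  let q₁ := AbDual.ovrHom Ty u ≫ q
  have ht : Triv ((Scheme.Modules.pullback (PicF.XTmap f q₁)).obj L) := by
    refine (triv_pullback_iff _).2 ?_
    rw [hLc]
    exact (eq_iff_mul_eq_one _ hde).1 hx
  let a' : Spec (U.residueField x) ⟶ Spec (V.left.residueField y) := U.fromSpecResidueField x ≫ u
  let k : Spec (U.residueField x) ⟶ V.left := a' ≫ V.left.fromSpecResidueField y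
  have hk : k (IsLocalRing.closedPoint (U.residueField x)) = y := by
    rw [Scheme.Hom.comp_apply]
    exact Scheme.fromSpecResidueField_apply _ _
  have hpb := SeesawX.PicSep.isPullback_XTmap f q₁
  let p := PicF.XTproj f V
  have ht' : Triv ((Scheme.Modules.pullback (pullback.fst p k)).obj L) :=
    triv_of_factor (hpb.lift (pullback.fst p k) (pullback.snd p k ≫ U.fromSpecResidueField x)
      (by rw [Category.assoc]; exact pullback.condition)) (hpb.lift_fst _ _ _) ht
  have hm := mem_good_of_triv h g hgp L hL' (K := U.residueField x) k ht'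
  exact (congrArg (fun z : V.left => z ∈ good h g L) hk).mp hm

end Key

include hP in
/-- The Picard scheme of a proper smooth morphism is separated. -/
theorem isSeparated : IsSeparated P.hom := by
  constructor
  refine IsClosedImmersion.of_isPreimmersion _ ?_
  let Δ := pullback.diagonal P.hom
  show IsClosed (Set.range Δ)
  let T₀ : Over S := Over.mk (pullback.fst P.hom P.hom ≫ P.hom)
  let g₀ : T₀ ⟶ P := Over.homMk (pullback.fst P.hom P.hom) rfl
  let g₀' : T₀ ⟶ P := Over.homMk (pullback.snd P.hom P.hom) pullback.condition.symm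
  rw [← isOpen_compl_iff, isOpen_iff_forall_mem_open]
  intro z hz
  obtain ⟨U₁, u₁, a, hfl, hfp, ha, c₁, hc₁, hφ₁⟩ := hP.surj T₀ g₀ z
  let T₁ := AbDual.ovr T₀ u₁
  obtain ⟨U₂, u₂, b, hfl', hfp', hb, d, hd, hφd⟩ := hP.surj T₁ (AbDual.ovrHom T₀ u₁ ≫ g₀') a
  let V := AbDual.ovr T₁ u₂
  let w : V.left ⟶ pullback P.hom P.hom := u₂ ≫ u₁
  obtain ⟨c, hc, hφc⟩ : ∃ c : PicF.Cl (PicF.XT f V), PicF.IsInvertibleCl c ∧ (φ V c).left = w ≫ pullback.fst P.hom P.hom := by
    refine ⟨PicF.pullCl (PicF.XTmap f (AbDual.ovrHom T₁ u₂)) c₁, PicLoc.isInvertibleCl_pullCl _ hc₁, ?_⟩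
    rw [show φ V (PicF.pullCl (PicF.XTmap f (AbDual.ovrHom T₁ u₂)) c₁) = AbDual.ovrHom T₁ u₂ ≫ φ T₁ c₁ from
      hP.natural T₁ V (AbDual.ovrHom T₁ u₂) c₁ hc₁, hφ₁]
    exact (Category.assoc _ _ _).symm
  have hφd' : (φ V d).left = w ≫ pullback.snd P.hom P.hom := by
    rw [hφd]
    exact (Category.assoc _ _ _).symm
  obtain ⟨e, he, hde⟩ := PicTangent.GroupLaw.exists_inverse hd
  obtain ⟨L, hLc, hL⟩ := H23.PicMul.isInvertibleCl_mul hc he
  let p := PicF.XTproj f V
  haveI : IsProper p := MorphismProperty.pullback_snd (P := @IsProper) _ _ inferInstance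
  haveI : Smooth p := MorphismProperty.pullback_snd (P := @Smooth) _ _ inferInstance
  obtain ⟨S', h, g, hgp, hgf, hge, hhp, hhs, hhi⟩ := exists_stein p
  haveI := hgf
  haveI := hge
  haveI := hhp
  haveI := hhs
  haveI := hhi
  let A : Set V.left := good h g L
  have hA : IsClosed A := isClosed_good h g L hL
  have key : ∀ y, y ∈ A ↔ w y ∈ Set.range Δ := by
    intro y
    constructor
    · intro hy
      obtain ⟨Ω, _, k, hk, heq⟩ := exists_point_of_mem_good hP hc hd hde hLc hL h g hgp y hy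
      rw [hφc, hφd', ← Category.assoc, ← Category.assoc] at heq
      have he' : k ≫ w = ((k ≫ w) ≫ pullback.fst P.hom P.hom) ≫ Δ := by
        refine pullback.hom_ext ?_ ?_
        · simp [Δ]
        · rw [Category.assoc _ Δ, pullback.diagonal_snd, Category.comp_id]; exact heq.symm
      refine ⟨((k ≫ w) ≫ pullback.fst P.hom P.hom) (IsLocalRing.closedPoint _), ?_⟩
      rw [← Scheme.Hom.comp_apply, ← he', Scheme.Hom.comp_apply, hk]
    · intro hy
      obtain ⟨l, hl⟩ := (SeesawX.mem_range_iff_factor Δ (w y)).1 hy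
      refine mem_good_of_eq hP hc hd hde hLc hL h g hgp y ?_
      have he' : V.left.fromSpecResidueField y ≫ w = (Spec.map (w.residueFieldMap y) ≫ l) ≫ Δ := by
        rw [Category.assoc, hl, Scheme.Hom.SpecMap_residueFieldMap_fromSpecResidueField]
      calc V.left.fromSpecResidueField y ≫ (φ V c).left
          = (V.left.fromSpecResidueField y ≫ w) ≫ pullback.fst P.hom P.hom :=
            (congrArg (V.left.fromSpecResidueField y ≫ ·) hφc).trans (Category.assoc _ _ _).symm
        _ = (V.left.fromSpecResidueField y ≫ w) ≫ pullback.snd P.hom P.hom := by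
            rw [he']; simp [Δ]
        _ = V.left.fromSpecResidueField y ≫ (φ V d).left :=
            (Category.assoc _ _ _).trans (congrArg (V.left.fromSpecResidueField y ≫ ·) hφd'.symm)
  haveI : Flat w := MorphismProperty.comp_mem _ _ _ hfl' hfl
  haveI : LocallyOfFinitePresentation w := MorphismProperty.comp_mem _ _ _ hfp' hfp
  refine ⟨w '' Aᶜ, ?_, w.isOpenMap _ hA.isOpen_compl, ⟨b, fun hbA => hz ?_, ?_⟩⟩
  · rintro _ ⟨y, hy, rfl⟩ h'
    exact hy ((key y).2 h')
  · have hbz : w b = z := by rw [← ha, ← hb]; rfl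
    exact hbz ▸ (key b).1 hbA
  · show w b = z
    rw [← ha, ← hb]; rfl

end Groth.Agent.PicSepSmooth
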