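import Groth.Agent.PicSepSmooth.Stein
import Groth.Agent.SeesawX.PicSep
import Groth.Agent.H23.SeesawGlobal

/-!
# Triviality of a line bundle on the fibres of a proper smooth morphism
-/

set_option autoImplicit false
set_option linter.style.haveILetI false
set_option backward.isDefEq.respectTransparency false
set_option backward.isDefEq.respectTransparency.types false

universe u

open CategoryTheory CategoryTheory.Limits AlgebraicGeometry TopologicalSpace Opposite
open Groth.Agent.InvX Groth.Agent.H23.TrivBasic Groth.Agent.H23.SeesawGlobal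

namespace Groth.Agent.PicSepSmooth

/-- A module trivial on the members of a disjoint open cover is trivial. -/
theorem triv_of_disjoint_cover {X : Scheme.{u}} {L : X.Modules} {ι : Type u} (W : ι → X.Opens)
    (hd : ∀ i j, i ≠ j → W i ⊓ W j = ⊥) (hW : iSup W = ⊤)
    (h : ∀ i, Triv ((Scheme.Modules.pullback (W i).ι).obj L)) : Triv L := by
  have hf : ∀ i, ∃ s : Γ(L, W i), IsFrame s := fun i => by
    obtain ⟨s, hs⟩ := exists_frame_of_triv (W i).ι (h i)
    refine ⟨AModX.res L (Scheme.Opens.opensRange_ι (W i)).ge s, hs.res _⟩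
  choose s hs using hf
  let F : TopCat.Sheaf Ab X := ⟨L.presheaf, L.isSheaf⟩
  obtain ⟨t, ht, -⟩ := TopCat.Sheaf.existsUnique_gluing' F W ⊤ (fun i => homOfLE le_top) hW.ge s (fun i j => by
    by_cases hij : i = j
    · subst hij; rfl
    · exact TopCat.Sheaf.eq_of_locally_eq' F (fun e : PEmpty.{u+1} => e.elim) (W i ⊓ W j) (fun e => e.elim)
        (by rw [hd i j hij]; exact bot_le) _ _ fun e => e.elim)
  refine triv_of_frame (e := show Γ(L, ⊤) from t) (locus_eq_top_iff.1 (top_le_iff.1 ?_))
  refine hW.ge.trans (iSup_le fun i => le_locus ?_)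
  have : AModX.res L (le_top : W i ≤ ⊤) (show Γ(L, ⊤) from t) = s i := ht i
  rw [this]
  exact hs i

variable {X S S' : Scheme.{u}} {p : X ⟶ S} (h : X ⟶ S') (g : S' ⟶ S) (hgp : h ≫ g = p)
  [IsProper h] [Smooth h] [GeometricallyIntegral h] [IsFinite g] [Etale g] (L : X.Modules)

/-- The points of the base over all of whose preimages the module is trivial. -/
def good : Set S := {y | ∀ y' : S', g y' = y → FieldTriv h L y'}

omit [Smooth h] [IsFinite g] in
theorem isClosed_good (hL : PicF.IsInvertible L) [Flat h] [LocallyOfFinitePresentation h] :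
    IsClosed (good h g L) := by
  have hA : IsClosed {y' : S' | FieldTriv h L y'} := by
    have : {y' : S' | FieldTriv h L y'} =
        {s : S' | Nonempty ((Scheme.Modules.pullback (h.fiberι s)).obj L ≅ Coh.structureModule (h.fiber s))} :=
      Set.ext fun y' => fieldTriv_iff_residueField y'
    rw [this]
    exact SeesawX.isClosed_fibre_trivial h hL
  have he : good h g L = (g '' {y' : S' | FieldTriv h L y'}ᶜ)ᶜ := by
    ext y
    simp only [good, Set.mem_ofPred_eq, Set.mem_compl_iff, Set.mem_image, not_exists, not_and]
    exact ⟨fun H y' h1 h2 => h1 (H y' h2), fun H y' h2 => by_contra fun h1 => H y' h1 h2⟩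
  rw [he, isClosed_compl_iff]
  exact g.isOpenMap _ hA.isOpen_compl

include hgp

omit [IsFinite g] [Etale g] in
/-- Triviality over one field valued point gives triviality over all the preimages of its image. -/
theorem mem_good_of_triv (hL : PicF.IsInvertible L) {K : Type u} [Field K] (k : Spec (CommRingCat.of K) ⟶ S)
    (hk : Triv ((Scheme.Modules.pullback (pullback.fst p k)).obj L)) : k (IsLocalRing.closedPoint K) ∈ good h g L := by
  intro y' hy'
  obtain ⟨q, hq, -⟩ := Scheme.Pullback.exists_preimage_pullback (f := g) (g := k) y' _ hy'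
  let M : Type u := (pullback g k).residueField q
  letI : Field M := inferInstanceAs (Field ((pullback g k).residueField q))
  let ρ : Spec (CommRingCat.of M) ⟶ Spec (CommRingCat.of K) := (pullback g k).fromSpecResidueField q ≫ pullback.snd g k
  let k' : Spec (CommRingCat.of M) ⟶ S' := (pullback g k).fromSpecResidueField q ≫ pullback.fst g k
  have hk' : k' (IsLocalRing.closedPoint M) = y' := by
    exact ((Scheme.Hom.comp_apply _ _ _).trans (congrArg _ (Scheme.fromSpecResidueField_apply _ _))).trans hq
  have hρ : ρ ≫ k = k' ≫ g := by simp only [ρ, k', Category.assoc, pullback.condition]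
  have h1 : Triv ((Scheme.Modules.pullback (pullback.fst h k')).obj L) :=
    triv_of_factor (pullback.lift (pullback.fst h k') (pullback.snd h k' ≫ ρ) (by
      rw [Category.assoc, hρ, ← pullback.condition_assoc, hgp])) (pullback.lift_fst _ _ _) hk
  rw [fieldTriv_iff_residueField]
  subst hk'
  let a : Spec (CommRingCat.of M) ⟶ Spec (S'.residueField (k' (IsLocalRing.closedPoint M))) :=
    Spec.map (S'.descResidueField (Scheme.stalkClosedPointTo k'))
  have ha : a ≫ S'.fromSpecResidueField _ = k' :=
    Scheme.descResidueField_stalkClosedPointTo_fromSpecResidueField M S' k'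
  let φ : pullback h k' ⟶ h.fiber (k' (IsLocalRing.closedPoint M)) :=
    pullback.lift (pullback.fst h k') (pullback.snd h k' ≫ a) (by rw [Category.assoc, ha]; exact pullback.condition)
  have hpb : IsPullback φ (pullback.snd h k') (h.fiberToSpecResidueField (k' (IsLocalRing.closedPoint M))) a := by
    refine IsPullback.of_right ?_ (pullback.lift_snd _ _ _)
      (IsPullback.of_hasPullback h (S'.fromSpecResidueField (k' (IsLocalRing.closedPoint M))))
    rw [pullback.lift_fst, ha]
    exact IsPullback.of_hasPullback h k'
  haveI : IsIntegral (h.fiber (k' (IsLocalRing.closedPoint M))) :=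
    GeometricallyIntegral.geometrically_isIntegral (f := h) _ _ _ (IsPullback.of_hasPullback h _)
  haveI : IsIntegral (pullback h k') :=
    GeometricallyIntegral.geometrically_isIntegral (f := h) _ _ _ (IsPullback.of_hasPullback h k')
  haveI : IsProper (h.fiberToSpecResidueField (k' (IsLocalRing.closedPoint M))) :=
    MorphismProperty.pullback_snd (P := @IsProper) _ _ inferInstance
  have h2 : Triv ((Scheme.Modules.pullback φ).obj ((Scheme.Modules.pullback (h.fiberι _)).obj L)) :=
    (triv_comp_iff φ _).2 ((triv_congr (show φ ≫ h.fiberι _ = pullback.fst h k' from pullback.lift_fst _ _ _)).2 h1)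
  exact SeesawX.triv_of_field_ext (K := S'.residueField (k' (IsLocalRing.closedPoint M))) (K' := M)
    (h.fiberToSpecResidueField _) (pullback.snd h k') φ a hpb (PicClLib.isInvertible_pullback _ hL) h2.some

omit [Smooth h] [IsProper h] [GeometricallyIntegral h] in
/-- Over a point of the good set the module is trivial on the geometric fibre. -/
theorem triv_of_mem_good {Ω : Type u} [Field Ω] [IsAlgClosed Ω] (k : Spec (CommRingCat.of Ω) ⟶ S)
    (hk : k (IsLocalRing.closedPoint Ω) ∈ good h g L) :
    Triv ((Scheme.Modules.pullback (pullback.fst p k)).obj L) := by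
  let Q := pullback g k
  let gk : Q ⟶ Spec (CommRingCat.of Ω) := pullback.snd g k
  haveI : IsFinite gk := MorphismProperty.pullback_snd (P := @IsFinite) _ _ inferInstance
  haveI : Etale gk := MorphismProperty.pullback_snd (P := @Etale) _ _ inferInstance
  let π : pullback p k ⟶ Q := pullback.lift (pullback.fst p k ≫ h) (pullback.snd p k)
    (by rw [Category.assoc, hgp]; exact pullback.condition)
  let σ : closedPoints Q → (Spec (CommRingCat.of Ω) ⟶ Q) := fun z => ((pointEquivClosedPoint gk).symm z).1
  have hσ : ∀ z, σ z ≫ gk = 𝟙 _ := fun z => ((pointEquivClosedPoint gk).symm z).2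
  have hσz : ∀ z, σ z (IsLocalRing.closedPoint Ω) = z.1 := fun z =>
    congrArg Subtype.val ((pointEquivClosedPoint gk).apply_symm_apply z)
  haveI : ∀ z, IsOpenImmersion (σ z) := fun z => by
    haveI : Etale (σ z ≫ gk) := by rw [hσ z]; infer_instance
    haveI : Etale (σ z) := Etale.of_comp (σ z) gk
    haveI : IsSplitMono (σ z) := IsSplitMono.mk' ⟨gk, hσ z⟩
    exact IsOpenImmersion.of_flat_of_mono (σ z)
  have hmem : ∀ (z) (w : Q), w ∈ (σ z).opensRange → w = z.1 := by
    rintro z w ⟨v, rfl⟩
    rw [← hσz z]
    exact congrArg (σ z) (@Subsingleton.elim ↥(Spec (CommRingCat.of Ω)) inferInstance _ _)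
  refine triv_of_disjoint_cover (fun z : closedPoints Q => π ⁻¹ᵁ (σ z).opensRange) (fun z z' hne => ?_) ?_ fun z => ?_
  · refine le_bot_iff.1 fun x hx => hne (Subtype.ext ?_)
    exact (hmem z _ hx.1).symm.trans (hmem z' _ hx.2)
  · refine top_le_iff.1 fun x _ => Opens.mem_iSup.2 ?_
    haveI : DiscreteTopology Q := discreteTopology_of_isFinite_to_field gk
    exact ⟨⟨π x, isClosed_discrete _⟩, IsLocalRing.closedPoint Ω, hσz _⟩
  · let k' := σ z ≫ pullback.fst g k
    have hk' : g (k' (IsLocalRing.closedPoint Ω)) = k (IsLocalRing.closedPoint Ω) := by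
      have : k' ≫ g = k := by
        rw [Category.assoc, pullback.condition, ← Category.assoc, show σ z ≫ pullback.snd g k = 𝟙 _ from hσ z,
          Category.id_comp]
      rw [← Scheme.Hom.comp_apply, this]
    have h1 := hk _ hk' Ω k' rfl
    let W := π ⁻¹ᵁ (σ z).opensRange
    have hr : Set.range (W.ι ≫ π) ⊆ Set.range (σ z) := by
      rintro _ ⟨x, rfl⟩
      exact x.2
    let l := IsOpenImmersion.lift (σ z) (W.ι ≫ π) hr
    rw [triv_comp_iff]
    refine triv_of_factor (pullback.lift (W.ι ≫ pullback.fst p k) l ?_) (pullback.lift_fst _ _ _) h1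
    rw [show l ≫ k' = (l ≫ σ z) ≫ pullback.fst g k from (Category.assoc _ _ _).symm, IsOpenImmersion.lift_fac,
      Category.assoc, Category.assoc, pullback.lift_fst]
where
  discreteTopology_of_isFinite_to_field {Q : Scheme.{u}} {Ω : Type u} [Field Ω]
      (q : Q ⟶ Spec (CommRingCat.of Ω)) [IsFinite q] : DiscreteTopology Q := by
    haveI : IsAffine Q := isAffine_of_isAffineHom q
    haveI hfin : _root_.Finite Q := by
      have := IsFinite.finite_preimage_singleton q (IsLocalRing.closedPoint Ω)
      have hu : q ⁻¹' {IsLocalRing.closedPoint Ω} = Set.univ :=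
        Set.eq_univ_of_forall fun x => @Subsingleton.elim ↥(Spec (CommRingCat.of Ω)) inferInstance _ _
      rw [hu] at this
      exact Set.finite_univ_iff.1 this
    haveI := LocallyOfFiniteType.jacobsonSpace q
    exact inferInstance

end Groth.Agent.PicSepSmooth
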