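import Groth.Agent.PicSepSmooth.Separated
import Groth.Agent.S7887
import Groth.Agent.S4433
import Groth.Agent.S2335
import Groth.Agent.H26.SmoothModel
import Groth.Agent.IsoNatLib.ProperInertia
import Groth.Agent.CMBCAny.Basic
import Groth.Agent.InvX.Pullback

/-!
# Finite type closed subschemes of the Picard scheme of a proper smooth morphism are proper
-/

set_option autoImplicit false
set_option linter.style.haveILetI false
set_option backward.isDefEq.respectTransparency false
set_option backward.isDefEq.respectTransparency.types false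
set_option maxHeartbeats 1000000

universe u

open CategoryTheory CategoryTheory.Limits AlgebraicGeometry TopologicalSpace

namespace Groth.Agent.PicSepSmooth

open Groth.Agent

variable {X S : Scheme.{u}} (f : X ⟶ S) [IsProper f] [Smooth f]

/-- A class over the fraction field of a discrete valuation ring extends. -/
theorem exists_class_extension {R K : Type u} [CommRing R] [IsDomain R] [IsDiscreteValuationRing R] [Field K]
    [Algebra R K] [IsFractionRing R K] (b : Spec (CommRingCat.of R) ⟶ S)
    (c : PicF.Cl (PicF.XT f (AbDual.ovr (Over.mk b) (Spec.map (CommRingCat.ofHom (algebraMap R K))))))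
    (hc : PicF.IsInvertibleCl c) :
    ∃ d : PicF.Cl (PicF.XT f (Over.mk b)), PicF.IsInvertibleCl d ∧
      PicF.pullCl (PicF.XTmap f (AbDual.ovrHom (Over.mk b) (Spec.map (CommRingCat.ofHom (algebraMap R K))))) d = c := by
  let j := Spec.map (CommRingCat.ofHom (algebraMap R K))
  let Tb : Over S := Over.mk b
  haveI : IsOpenImmersion j := IsoNatLib.isOpenImmersion_generic R K
  let m : PicF.XT f (AbDual.ovr Tb j) ⟶ PicF.XT f Tb := PicF.XTmap f (AbDual.ovrHom Tb j)
  haveI : IsOpenImmersion m := MorphismProperty.of_isPullback (P := @IsOpenImmersion)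
    (SeesawX.PicSep.isPullback_XTmap f (AbDual.ovrHom Tb j)).flip (inferInstanceAs (IsOpenImmersion j))
  let p : PicF.XT f Tb ⟶ Spec (CommRingCat.of R) := pullback.snd f b
  haveI : IsProper p := MorphismProperty.pullback_snd (P := @IsProper) f b inferInstance
  haveI : Smooth p := MorphismProperty.pullback_snd (P := @Smooth) f b inferInstance
  haveI : IsLocallyNoetherian (PicF.XT f Tb) := LocallyOfFiniteType.isLocallyNoetherian p
  obtain ⟨L, hLc, hL⟩ := hc
  let e : PicF.XT f (AbDual.ovr Tb j) ≅ (m.opensRange : Scheme.{u}) := m.isoOpensRange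
  have hM : PicF.IsInvertible ((Scheme.Modules.pullback e.inv).obj L) := PicClLib.isInvertible_pullback e.inv hL
  haveI : ∀ x : PicF.XT f Tb, IsRegularLocalRing ((PicF.XT f Tb).presheaf.stalk x) := fun x =>
    H26.SmoothModel.isRegular_of_smooth p x
  obtain ⟨L', hL', ⟨i⟩⟩ := InvUfdLib.exists_extension_of_ufd m.opensRange _ hM fun x _ => (RegUFD.ufd _).2
  refine ⟨PicF.cl L', ⟨L', rfl, hL'⟩, ?_⟩
  show PicF.pullCl m (PicF.cl L') = c
  rw [show m = e.hom ≫ m.opensRange.ι from (m.isoOpensRange_hom_ι).symm, ← PicClLib.pullCl_comp,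
    show PicF.pullCl m.opensRange.ι (PicF.cl L') = PicF.pullCl e.inv (PicF.cl L) from
      Quot.sound ⟨((Scheme.Modules.restrictFunctorIsoPullback m.opensRange.ι).app L').symm ≪≫ i⟩,
    PicClLib.pullCl_comp, e.hom_inv_id, PicClLib.pullCl_id, hLc]

variable {f} {P : Over S} {φ : ∀ T : Over S, PicF.Cl (PicF.XT f T) → (T ⟶ P)} (hP : IsFlatLocal f φ)

include hP in
/-- A generic point of the Picard scheme extends after an extension of the valuation ring. -/
theorem exists_extension {R : Type u} [CommRing R] [IsDomain R] [IsDiscreteValuationRing R]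
    (b : Spec (CommRingCat.of R) ⟶ S) (gK : Spec (CommRingCat.of (FractionRing R)) ⟶ P.left)
    (hg : gK ≫ P.hom = Spec.map (CommRingCat.ofHom (algebraMap R (FractionRing R))) ≫ b) :
    ∃ (K' : Type u) (_ : Field K') (_ : Algebra (FractionRing R) K') (R' : ValuationSubring K') (φR : R →+* R'),
      IsLocalHom φR ∧ (∀ r, (φR r : K') = algebraMap (FractionRing R) K' (algebraMap R (FractionRing R) r)) ∧
      ∃ l : Spec (CommRingCat.of R') ⟶ P.left, l ≫ P.hom = Spec.map (CommRingCat.ofHom φR) ≫ b ∧
        Spec.map (CommRingCat.ofHom R'.subtype) ≫ l =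
          Spec.map (CommRingCat.ofHom (algebraMap (FractionRing R) K')) ≫ gK := by
  let K := FractionRing R
  let j := Spec.map (CommRingCat.ofHom (algebraMap R K))
  let T : Over S := AbDual.ovr (Over.mk b) j
  let g : T ⟶ P := Over.homMk gK hg
  obtain ⟨U, u, a, -, hlfp, -, c, hc, hφc⟩ := hP.surj T g (IsLocalRing.closedPoint K)
  haveI := hlfp
  let K' : Type u := U.residueField a
  letI : Field K' := inferInstanceAs (Field (U.residueField a))
  let q : Spec (CommRingCat.of K') ⟶ U := U.fromSpecResidueField a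
  obtain ⟨ρ, hρ⟩ : ∃ ρ : CommRingCat.of K ⟶ CommRingCat.of K', Spec.map ρ = q ≫ u :=
    ⟨Spec.preimage _, Spec.map_preimage _⟩
  letI : Algebra K K' := ρ.hom.toAlgebra
  letI : Algebra R K' := ((algebraMap K K').comp (algebraMap R K)).toAlgebra
  haveI : IsScalarTower R K K' := .of_algebraMap_eq fun _ => rfl
  have hess : Algebra.EssFiniteType K K' :=
    RingHom.essFiniteType_algebraMap.1
      (CMBCAny.essFiniteType_of_fromSpecResidueField (k := CommRingCat.of K) (Field.toIsField K) u a ρ hρ)
  obtain ⟨R', hR', hmem, hval⟩ := S4433.result R (IsDiscreteValuationRing.not_isField R) K K'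
    (IntermediateField.fg_top_iff.2 hess)
  let φR : R →+* R' := (algebraMap R K').codRestrict R'.toSubring hmem
  have hloc : IsLocalHom φR := by
    refine ⟨fun r hr => ?_⟩
    by_contra hu
    have h1 := hval r ((IsLocalRing.mem_maximalIdeal _).2 hu)
    exact (R'.valuation_lt_one_iff (φR r)).2 h1 hr
  refine ⟨K', inferInstance, inferInstance, R', φR, hloc, fun r => rfl, ?_⟩
  haveI := hR'
  let T' : Over S := Over.mk (Spec.map (CommRingCat.ofHom φR) ≫ b)
  let j' := Spec.map (CommRingCat.ofHom (algebraMap R' K'))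
  haveI : IsFractionRing R' K' := inferInstance
  have hcomm : Spec.map ρ ≫ j = j' ≫ Spec.map (CommRingCat.ofHom φR) := by
    rw [← Spec.map_comp, ← Spec.map_comp]
    rfl
  let v : AbDual.ovr T' j' ⟶ AbDual.ovr T u := Over.homMk q (by
    show q ≫ u ≫ j ≫ b = j' ≫ Spec.map (CommRingCat.ofHom φR) ≫ b
    rw [← Category.assoc q, ← hρ, reassoc_of% hcomm])
  obtain ⟨d, hd, hdc⟩ := exists_class_extension f (R := R') (K := K') T'.hom
    (PicF.pullCl (PicF.XTmap f v) c) (PicLoc.isInvertibleCl_pullCl _ hc)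
  refine ⟨(φ T' d).left, Over.w (φ T' d), ?_⟩
  have h1 : AbDual.ovrHom T' j' ≫ φ T' d = v ≫ AbDual.ovrHom T u ≫ g := by
    rw [← hφc, ← hP.natural _ _ v c hc, ← hP.natural T' _ _ d hd]
    exact congrArg _ hdc
  have h2 := congrArg CommaMorphism.left h1
  refine h2.trans ?_
  show q ≫ u ≫ gK = Spec.map ρ ≫ gK
  rw [hρ, Category.assoc]

/-- A point with values in a field which extends over a larger valuation ring extends. -/
theorem exists_lift_of_extension {Z S : Scheme.{u}} (h : Z ⟶ S) {R K K' : Type u} [CommRing R] [IsDomain R]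
    [IsDiscreteValuationRing R] [Field K] [Algebra R K] [IsFractionRing R K] [Field K'] [Algebra K K']
    (R' : ValuationSubring K') (φR : R →+* R') [IsLocalHom φR]
    (hφ : ∀ r, (φR r : K') = algebraMap K K' (algebraMap R K r))
    (b : Spec (CommRingCat.of R) ⟶ S) (z : Spec (CommRingCat.of K) ⟶ Z)
    (l' : Spec (CommRingCat.of R') ⟶ Z) (hl : l' ≫ h = Spec.map (CommRingCat.ofHom φR) ≫ b)
    (hz : Spec.map (CommRingCat.ofHom R'.subtype) ≫ l' = Spec.map (CommRingCat.ofHom (algebraMap K K')) ≫ z) :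
    ∃ l : Spec (CommRingCat.of R) ⟶ Z,
      l ≫ h = b ∧ Spec.map (CommRingCat.ofHom (algebraMap R K)) ≫ l = z := by
  let r := Spec.map (CommRingCat.ofHom φR)
  let j := Spec.map (CommRingCat.ofHom (algebraMap R K))
  let a := Spec.map (CommRingCat.ofHom (algebraMap K K'))
  obtain ⟨W, hW, hz₀, -⟩ :=
    exists_isAffineOpen_mem_and_subset (show l' (IsLocalRing.closedPoint R') ∈ (⊤ : Z.Opens) from trivial)
  have hl'W : Set.range l' ⊆ Set.range W.ι := by
    rw [Scheme.Opens.range_ι]
    rintro _ ⟨x, rfl⟩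
    exact ((IsLocalRing.specializes_closedPoint x).map l'.continuous).mem_open W.2 hz₀
  have hzW : Set.range z ⊆ Set.range W.ι := by
    rintro _ ⟨x, rfl⟩
    obtain ⟨x', rfl⟩ : ∃ x', a x' = x :=
      ⟨IsLocalRing.closedPoint K', @Subsingleton.elim ↥(Spec (CommRingCat.of K)) inferInstance _ _⟩
    rw [← Scheme.Hom.comp_apply, ← hz, Scheme.Hom.comp_apply]
    exact hl'W ⟨_, rfl⟩
  haveI : IsAffine W.toScheme := hW
  let zW := IsOpenImmersion.lift W.ι z hzW ≫ W.toScheme.isoSpec.hom
  let lW := IsOpenImmersion.lift W.ι l' hl'W ≫ W.toScheme.isoSpec.hom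
  obtain ⟨α, hα⟩ : ∃ α, Spec.map α = zW := ⟨Spec.preimage _, Spec.map_preimage _⟩
  obtain ⟨β, hβ⟩ : ∃ β, Spec.map β = lW := ⟨Spec.preimage _, Spec.map_preimage _⟩
  have hab : ∀ x, algebraMap K K' (α.hom x) = (β.hom x : K') := by
    have : Spec.map (α ≫ CommRingCat.ofHom (algebraMap K K')) = Spec.map (β ≫ CommRingCat.ofHom R'.subtype) := by
      rw [Spec.map_comp, Spec.map_comp, hα, hβ, ← cancel_mono W.toScheme.isoSpec.inv, ← cancel_mono W.ι]
      simp only [zW, lW, Category.assoc, Iso.hom_inv_id_assoc, IsOpenImmersion.lift_fac]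
      exact hz.symm
    intro x
    exact congrArg (fun m => m.hom x) (Spec.map_injective this)
  have hrange : ∀ x, ∃ t : R, algebraMap R K t = α.hom x := by
    intro x
    rcases ValuationRing.isInteger_or_isInteger R (α.hom x) with ⟨t, ht⟩ | ⟨t, ht⟩
    · exact ⟨t, ht⟩
    · by_cases h0 : α.hom x = 0
      · exact ⟨0, by rw [h0, map_zero]⟩
      have hu : IsUnit (φR t) := by
        refine IsUnit.of_mul_eq_one (β.hom x) (Subtype.ext ?_)
        show (φR t : K') * (β.hom x : K') = 1
        rw [← hab, hφ, ht, ← map_mul, inv_mul_cancel₀ h0, map_one]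
      obtain ⟨t', ht'⟩ := IsUnit.of_map φR t hu
      refine ⟨(t'⁻¹ : Rˣ), ?_⟩
      rw [← inv_inv (α.hom x), ← ht, ← ht', map_units_inv]
  choose γ hγ using hrange
  let γh : Γ(W.toScheme, ⊤) →+* R :=
    { toFun := γ
      map_one' := IsFractionRing.injective R K (by rw [hγ, map_one, map_one])
      map_mul' := fun x y => IsFractionRing.injective R K (by rw [map_mul, hγ, hγ, hγ, map_mul])
      map_zero' := IsFractionRing.injective R K (by rw [hγ, map_zero, map_zero])
      map_add' := fun x y => IsFractionRing.injective R K (by rw [map_add, hγ, hγ, hγ, map_add]) }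
  let l := Spec.map (CommRingCat.ofHom γh) ≫ W.toScheme.isoSpec.inv ≫ W.ι
  have hjl : j ≫ l = z := by
    have : Spec.map (CommRingCat.ofHom (algebraMap R K)) ≫ Spec.map (CommRingCat.ofHom γh) = zW := by
      rw [← Spec.map_comp, ← hα]
      exact congrArg Spec.map (CommRingCat.hom_ext (RingHom.ext hγ))
    simp only [l, j, reassoc_of% this, zW, Category.assoc, Iso.hom_inv_id_assoc, IsOpenImmersion.lift_fac]
  have hrl : r ≫ l = l' := by
    have : r ≫ Spec.map (CommRingCat.ofHom γh) = lW := by
      rw [← Spec.map_comp, ← hβ]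
      refine congrArg Spec.map (CommRingCat.hom_ext (RingHom.ext fun x => Subtype.ext ?_))
      show (φR (γ x) : K') = (β.hom x : K')
      rw [hφ, hγ, hab]
    simp only [l, reassoc_of% this, lW, Category.assoc, Iso.hom_inv_id_assoc, IsOpenImmersion.lift_fac]
  refine ⟨l, ?_, hjl⟩
  have hinj : Function.Injective φR := fun x y hxy => by
    have := congrArg (fun t : R' => (t : K')) hxy
    simp only [hφ] at this
    exact IsFractionRing.injective R K ((algebraMap K K').injective this)
  haveI : Flat r := by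
    rw [HasRingHomProperty.Spec_iff (P := @Flat)]
    letI : Algebra R R' := φR.toAlgebra
    haveI : FaithfulSMul R R' := (faithfulSMul_iff_algebraMap_injective R R').2 hinj
    haveI : Module.IsTorsionFree R R' := Module.IsTorsionFree.trans_faithfulSMul R R' R'
    exact (inferInstance : Module.Flat R R')
  haveI : Surjective r := by
    haveI : IsOpenImmersion j := IsoNatLib.isOpenImmersion_generic R K
    refine ⟨fun x => ?_⟩
    by_cases hx : x = IsLocalRing.closedPoint R
    · exact ⟨IsLocalRing.closedPoint R', hx ▸ IsLocalRing.comap_closedPoint φR⟩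
    · refine ⟨⟨⊥, Ideal.bot_prime⟩, PrimeSpectrum.ext ?_⟩
      show Ideal.comap φR ⊥ = x.asIdeal
      rw [← RingHom.ker_eq_comap_bot, (RingHom.injective_iff_ker_eq_bot φR).1 hinj]
      refine (?_ : x.asIdeal = ⊥).symm
      by_contra hne
      exact hx (PrimeSpectrum.ext (IsLocalRing.eq_maximalIdeal (x.isPrime.isMaximal_of_ne_bot hne)))
  haveI : Epi r := Flat.epi_of_flat_of_surjective r
  rw [← cancel_epi r, ← Category.assoc, hrl, hl]

include hP in
/-- A closed subscheme of finite type of the Picard scheme is proper. -/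
theorem isProper_of_closed {Z : Scheme.{u}} (i : Z ⟶ P.left) [IsClosedImmersion i]
    [LocallyOfFiniteType (i ≫ P.hom)] [IsLocallyNoetherian S] [QuasiCompact (i ≫ P.hom)] : IsProper (i ≫ P.hom) := by
  haveI : IsSeparated P.hom := isSeparated hP
  refine (S2335.result (i ≫ P.hom)).2 fun R _ _ _ x y hxy => ?_
  let K := FractionRing R
  let j := Spec.map (CommRingCat.ofHom (algebraMap R K))
  obtain ⟨K', _, _, R', φR, hloc, hφ, l, hl, hlj⟩ := exists_extension hP y (x ≫ i) (by rw [Category.assoc]; exact hxy)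
  haveI := hloc
  haveI : IsDominant (Spec.map (CommRingCat.ofHom R'.subtype)) :=
    ⟨(PrimeSpectrum.denseRange_comap_iff_ker_le_nilRadical _).2 (by
      rw [(RingHom.injective_iff_ker_eq_bot _).1 Subtype.val_injective]; exact bot_le)⟩
  obtain ⟨l', hl'⟩ : ∃ l', l' ≫ i = l := by
    refine ⟨IsClosedImmersion.lift i l ?_, IsClosedImmersion.lift_fac _ _ _⟩
    refine le_ker_of_isDominant_comp i (Spec.map (CommRingCat.ofHom R'.subtype)) l ?_
    exact ⟨_, (Category.assoc _ _ _).trans hlj.symm⟩
  obtain ⟨m, hm, hjm⟩ := exists_lift_of_extension (i ≫ P.hom) R' φR hφ y x l' (by rw [reassoc_of% hl']; exact hl) (by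
    rw [← cancel_mono i, Category.assoc, Category.assoc, hl']; exact hlj)
  refine ⟨m, ⟨hm, hjm⟩, fun m' ⟨hm', hjm'⟩ => ?_⟩
  haveI : IsDominant j := ⟨(PrimeSpectrum.denseRange_comap_iff_ker_le_nilRadical _).2 (by
    show RingHom.ker (algebraMap R K) ≤ _
    rw [(RingHom.injective_iff_ker_eq_bot (algebraMap R K)).1 (IsFractionRing.injective R K)]; exact bot_le)⟩
  exact ext_of_isDominant_of_isSeparated (i ≫ P.hom) (hm'.trans hm.symm) j (hjm'.trans hjm.symm)
where
  le_ker_of_isDominant_comp {Z Y W V : Scheme.{u}} (i : Z ⟶ Y) [IsClosedImmersion i] (j : W ⟶ V) [IsDominant j]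
      [IsReduced V] (l : V ⟶ Y) (h : ∃ x : W ⟶ Z, x ≫ i = j ≫ l) : i.ker ≤ l.ker := by
    obtain ⟨g, hg⟩ : ∃ g : V ⟶ Z, g ≫ i = l := by
      refine H23.RedSub.exists_lift_closed l i ?_
      obtain ⟨x, hx⟩ := h
      intro _ hy
      obtain ⟨v, rfl⟩ := hy
      have : closure (Set.range j) ⊆ l ⁻¹' Set.range i := by
        refine closure_minimal ?_ (i.isClosedEmbedding.isClosed_range.preimage l.continuous)
        rintro _ ⟨w, rfl⟩
        exact ⟨x w, by rw [← Scheme.Hom.comp_apply, hx, Scheme.Hom.comp_apply]⟩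
      exact this ((j.denseRange v))
    rw [← hg]
    exact Scheme.Hom.le_ker_comp _ _

end Groth.Agent.PicSepSmooth
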