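import Groth.Agent.S3701
import Groth.Agent.S0388
import Groth.Agent.CurveCohLib.SmoothCurve
import Groth.Agent.CurveCover.OmegaAmple
import Groth.Agent.H23.MaxAbelian
import Groth.Agent.GrpSchLib.SmoothReduced

/-!
# The Stein factorisation of a proper smooth morphism
-/

set_option autoImplicit false

universe u

open CategoryTheory CategoryTheory.Limits AlgebraicGeometry

namespace Groth.Agent.PicSepSmooth

/-- A proper smooth morphism with geometrically connected fibres has geometrically integral fibres. -/
theorem geometricallyIntegral_of_smooth {X S : Scheme.{u}} (h : X ⟶ S) [IsProper h] [Smooth h]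
    [GeometricallyConnected h] : GeometricallyIntegral h := by
  refine H23.MaxAbelian.geometricallyIntegral_of_pullback h fun K _ x => ?_
  haveI : ConnectedSpace ↥(pullback h x) :=
    GeometricallyConnected.geometrically_connectedSpace (f := h) _ _ _ (IsPullback.of_hasPullback h x)
  haveI : CompactSpace ↥(pullback h x) := QuasiCompact.compactSpace_of_compactSpace (pullback.snd h x)
  haveI : Smooth (pullback.snd h x) := MorphismProperty.pullback_snd (P := @Smooth) _ _ inferInstance
  exact CurveCohLib.isIntegral_of_smooth_connected (pullback.snd h x)

/-- A proper smooth morphism is a family of geometrically integral schemes over a finite étale cover. -/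
theorem exists_stein {X S : Scheme.{u}} (p : X ⟶ S) [IsProper p] [Smooth p] :
    ∃ (S' : Scheme.{u}) (h : X ⟶ S') (g : S' ⟶ S), h ≫ g = p ∧ IsFinite g ∧ Etale g ∧
      IsProper h ∧ Smooth h ∧ GeometricallyIntegral h := by
  have hred : ∀ (Ω : Type u) [Field Ω] [IsAlgClosed Ω] (σ : Spec (CommRingCat.of Ω) ⟶ S),
      IsReduced (pullback p σ) := fun Ω _ _ σ => by
    haveI : Smooth (pullback.snd p σ) := MorphismProperty.pullback_snd (P := @Smooth) _ _ inferInstance
    exact GrpSchLib.isReduced_of_smooth_field (pullback.snd p σ)
  obtain ⟨hf, he⟩ := S3701.result p hred
  haveI := hf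
  haveI := he
  haveI : GeometricallyConnected p.toNormalization := (S0388.result p).1
  haveI : IsProper (p.toNormalization ≫ p.fromNormalization) := by
    rw [p.toNormalization_fromNormalization]; infer_instance
  haveI : Smooth (p.toNormalization ≫ p.fromNormalization) := by
    rw [p.toNormalization_fromNormalization]; infer_instance
  haveI : IsProper p.toNormalization := IsProper.of_comp p.toNormalization p.fromNormalization
  haveI : Smooth p.toNormalization := CurveCover.OmegaAmple.smooth_of_comp_etale p.toNormalization p.fromNormalization
  exact ⟨p.normalization, p.toNormalization, p.fromNormalization, p.toNormalization_fromNormalization, hf, he,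
    inferInstance, inferInstance, geometricallyIntegral_of_smooth _⟩

end Groth.Agent.PicSepSmooth
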